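import Cfsg.Agent.Lib.M24Cert.OctadAction
import Cfsg.Agent.Lib.M24Cert.Transport

/-!
# Suborbits and fixed points for subgroups of the Mathieu group of degree 24
-/

set_option autoImplicit false

namespace CfsgLib.M24Idx

open Cfsg CfsgLib.Golay CfsgLib.M24Cert

open scoped Pointwise

variable {K : Subgroup (Equiv.Perm GolayPt)}

/-- The stabiliser of a point in `K`. -/
def ptStab (K : Subgroup (Equiv.Perm GolayPt)) (x : GolayPt) : Subgroup (Equiv.Perm GolayPt) :=
  K ⊓ MulAction.stabilizer (Equiv.Perm GolayPt) x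

/-- The orbit of a point under `K`. -/
noncomputable def orb (K : Subgroup (Equiv.Perm GolayPt)) (x : GolayPt) : Finset GolayPt :=
  (Set.toFinite (MulAction.orbit ↥K x)).toFinset

/-- The points fixed by a permutation. -/
def fixF (g : Equiv.Perm GolayPt) : Finset GolayPt := Finset.univ.filter fun p => g p = p

/-- The size of a suborbit. -/
noncomputable def sub (K : Subgroup (Equiv.Perm GolayPt)) (x y : GolayPt) : ℕ := (orb (ptStab K x) y).card

open Classical in
/-- The points whose suborbit at `x` has a size with property `P`. -/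
noncomputable def nbr (K : Subgroup (Equiv.Perm GolayPt)) (P : ℕ → Prop) (x : GolayPt) : Finset GolayPt :=
  Finset.univ.filter fun y => y ≠ x ∧ P (sub K x y)

theorem mem_ptStab {x : GolayPt} {g : Equiv.Perm GolayPt} : g ∈ ptStab K x ↔ g ∈ K ∧ g x = x := Iff.rfl

theorem mem_orb {x y : GolayPt} : y ∈ orb K x ↔ ∃ k ∈ K, k x = y := by
  rw [orb, Set.Finite.mem_toFinset]
  exact ⟨fun ⟨k, hk⟩ => ⟨k.1, k.2, hk⟩, fun ⟨k, hk, e⟩ => ⟨⟨k, hk⟩, e⟩⟩

theorem mem_fixF {g : Equiv.Perm GolayPt} {x : GolayPt} : x ∈ fixF g ↔ g x = x := by simp [fixF]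

theorem mem_nbr {P : ℕ → Prop} {x y : GolayPt} : y ∈ nbr K P x ↔ y ≠ x ∧ P (sub K x y) := by simp [nbr]

theorem self_mem_orb (x : GolayPt) : x ∈ orb K x := mem_orb.2 ⟨1, one_mem K, rfl⟩

theorem orb_inv {x y : GolayPt} {g : Equiv.Perm GolayPt} (hg : g ∈ K) (hy : y ∈ orb K x) : g y ∈ orb K x := by
  obtain ⟨k, hk, rfl⟩ := mem_orb.1 hy
  exact mem_orb.2 ⟨g * k, mul_mem hg hk, rfl⟩

theorem orb_eq_of_mem {x y : GolayPt} (hy : y ∈ orb K x) : orb K y = orb K x := by
  obtain ⟨k, hk, rfl⟩ := mem_orb.1 hy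
  ext z
  constructor
  · intro hz
    obtain ⟨g, hg, rfl⟩ := mem_orb.1 hz
    exact orb_inv hg (orb_inv hk (self_mem_orb x))
  · intro hz
    obtain ⟨g, hg, rfl⟩ := mem_orb.1 hz
    exact mem_orb.2 ⟨g * k⁻¹, mul_mem hg (inv_mem hk), by simp⟩

theorem orb_disjoint {x y : GolayPt} (h : y ∉ orb K x) : Disjoint (orb K x) (orb K y) :=
  Finset.disjoint_left.2 fun z hx hy => h (by rw [← orb_eq_of_mem hx, orb_eq_of_mem hy]; exact self_mem_orb y)

theorem card_orb_mul (x : GolayPt) : Nat.card ↥(ptStab K x) * (orb K x).card = Nat.card ↥K := by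
  rw [orb, ← Set.ncard_eq_toFinset_card]
  exact card_inf_stabilizer_mul K x

theorem card_orb_pos (x : GolayPt) : 0 < (orb K x).card := Finset.card_pos.2 ⟨x, self_mem_orb x⟩

theorem ptStab_comm (x y : GolayPt) : ptStab (ptStab K x) y = ptStab (ptStab K y) x := by
  simp only [ptStab, inf_assoc, inf_comm (MulAction.stabilizer (Equiv.Perm GolayPt) x)]

theorem card_pt : Fintype.card GolayPt = 24 := by decide

theorem card_orb_le (x : GolayPt) : (orb K x).card ≤ 24 := card_pt ▸ Finset.card_le_univ _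

theorem card_M24_point (x : GolayPt) : Nat.card ↥(ptStab M24 x) = 10200960 := by
  have h := card_orb_mul (K := M24) x
  have e : orb M24 x = Finset.univ := Finset.eq_univ_iff_forall.2 fun y =>
    mem_orb.2 (point_map y x)
  rw [e, Finset.card_univ, card_pt, card_M24] at h
  omega

theorem stab_dvd (hK : K ≤ M24) (x : GolayPt) : Nat.card ↥(ptStab K x) ∣ 10200960 :=
  card_M24_point x ▸ Subgroup.card_dvd_of_le (inf_le_inf_right _ hK)

theorem exists_mem_order {p : ℕ} [Fact p.Prime] {H : Subgroup (Equiv.Perm GolayPt)} (h : p ∣ Nat.card ↥H) :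
    ∃ g ∈ H, orderOf g = p := by
  obtain ⟨g, hg⟩ := exists_prime_orderOf_dvd_card' p h
  exact ⟨g.1, g.2, by rw [Subgroup.orderOf_coe]; exact hg⟩

theorem card_modEq {p : ℕ} [hp : Fact p.Prime] {g : Equiv.Perm GolayPt} (hg : orderOf g = p)
    {X : Finset GolayPt} (hX : ∀ x ∈ X, g x ∈ X) : X.card % p = (X ∩ fixF g).card % p := by
  classical
  have hp0 : IsPGroup p (Subgroup.zpowers g) :=
    IsPGroup.of_card (n := 1) (by rw [Nat.card_zpowers, hg, pow_one])
  let σ : Equiv.Perm {x // x ∈ X} := g.subtypePerm fun x => by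
    constructor
    · intro hx
      have hb : Function.Bijective (fun x : {x // x ∈ X} => (⟨g x.1, hX _ x.2⟩ : {x // x ∈ X})) :=
        Finite.injective_iff_bijective.1 fun u v h => Subtype.ext (g.injective (congrArg Subtype.val h))
      obtain ⟨⟨z, hz⟩, e⟩ := hb.2 ⟨g x, hx⟩
      exact g.injective (congrArg Subtype.val e) ▸ hz
    · exact hX x
  have hσ : σ ^ p ^ 1 = 1 := by
    rw [pow_one]
    ext x
    have e1 : g ^ p = 1 := by rw [← hg]; exact pow_orderOf_eq_one g
    simp [σ, Equiv.Perm.subtypePerm_pow, e1]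
  have h := Equiv.Perm.card_compl_support_modEq hσ
  have e : (σ.supportᶜ).card = (X ∩ fixF g).card := by
    rw [← Finset.card_map ⟨Subtype.val, Subtype.val_injective⟩]
    congr 1
    ext x
    simp [σ, mem_fixF, and_comm]
  rw [e, Fintype.card_coe] at h
  unfold Nat.ModEq at h
  exact h.symm

theorem five_stab {g : Equiv.Perm GolayPt} (hg : g ∈ M24) (h : 5 ≤ (fixF g).card) : orderOf g ∣ 48 := by
  obtain ⟨s, hs, hs5⟩ := Finset.exists_subset_card_eq h
  let f : Fin 5 ↪ GolayPt := ((Finset.equivFinOfCardEq hs5).symm.toEmbedding).trans (Function.Embedding.subtype _)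
  have hc := (MulAction.stabilizer ↥M24 f).card_mul_index
  have horb : MulAction.orbit ↥M24 f = Set.univ :=
    Set.eq_univ_of_forall fun f' => M24_five_transitive.exists_smul_eq f f'
  rw [MulAction.index_stabilizer] at hc
  erw [horb] at hc
  rw [Set.ncard_univ, card_M24, Nat.card_eq_fintype_card (α := Fin 5 ↪ GolayPt),
    Fintype.card_embedding_eq, card_pt, Fintype.card_fin] at hc
  have hmem : (⟨g, hg⟩ : ↥M24) ∈ MulAction.stabilizer ↥M24 f := by
    rw [MulAction.mem_stabilizer_iff]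
    refine DFunLike.ext _ _ fun i => ?_
    exact mem_fixF.1 (hs ((Finset.equivFinOfCardEq hs5).symm i).2)
  have hd := Subgroup.orderOf_dvd_natCard _ hmem
  rw [Subgroup.orderOf_mk] at hd
  rw [show Nat.descFactorial 24 5 = 5100480 from by decide] at hc
  have : Nat.card ↥(MulAction.stabilizer ↥M24 f) = 48 := by omega
  rwa [this] at hd

theorem fix_card {p : ℕ} (hp5 : p = 5 ∨ p = 7 ∨ p = 11) {g : Equiv.Perm GolayPt} (hg : g ∈ M24)
    (ho : orderOf g = p) : (fixF g).card = 24 % p := by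
  have hp : Fact p.Prime := ⟨by rcases hp5 with rfl | rfl | rfl <;> norm_num⟩
  have h := card_modEq ho (X := Finset.univ) fun x _ => Finset.mem_univ _
  rw [Finset.univ_inter, Finset.card_univ, card_pt] at h
  have hlt : (fixF g).card < 5 := by
    by_contra hge
    have := five_stab hg (Nat.le_of_not_lt hge)
    rw [ho] at this
    rcases hp5 with rfl | rfl | rfl <;> omega
  rw [Nat.mod_eq_of_lt (a := (fixF g).card) (by rcases hp5 with rfl | rfl | rfl <;> omega)] at h
  exact h.symm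

theorem sub_pos (x y : GolayPt) : 0 < sub K x y := card_orb_pos y

theorem sub_mul (x y : GolayPt) :
    Nat.card ↥(ptStab (ptStab K x) y) * sub K x y = Nat.card ↥(ptStab K x) := card_orb_mul y

theorem sub_dvd (x y : GolayPt) : sub K x y ∣ Nat.card ↥(ptStab K x) := Dvd.intro_left _ (sub_mul x y)

theorem card_ptStab_eq (htr : ∀ x, orb K x = Finset.univ) (x : GolayPt) :
    Nat.card ↥(ptStab K x) * 24 = Nat.card ↥K := by
  have := card_orb_mul (K := K) x
  rwa [htr x, Finset.card_univ, card_pt] at this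

theorem sub_symm (htr : ∀ x, orb K x = Finset.univ) (x y : GolayPt) : sub K x y = sub K y x := by
  have h1 := sub_mul (K := K) x y
  have h2 := sub_mul (K := K) y x
  have e : Nat.card ↥(ptStab K x) = Nat.card ↥(ptStab K y) := by
    have := card_ptStab_eq htr x; have := card_ptStab_eq htr y; omega
  rw [ptStab_comm x y, e, ← h2] at h1
  exact Nat.eq_of_mul_eq_mul_left Nat.card_pos h1

theorem orb_map {k : Equiv.Perm GolayPt} (hk : k ∈ K) (x y : GolayPt) :
    orb (ptStab K (k x)) (k y) = (orb (ptStab K x) y).map k.toEmbedding := by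
  ext z
  rw [Finset.mem_map_equiv]
  constructor
  · intro hz
    obtain ⟨g, hg, rfl⟩ := mem_orb.1 hz
    obtain ⟨hgK, hgx⟩ := mem_ptStab.1 hg
    refine mem_orb.2 ⟨k⁻¹ * g * k, mem_ptStab.2 ⟨mul_mem (mul_mem (inv_mem hk) hgK) hk, ?_⟩, rfl⟩
    simp [hgx]
  · intro hz
    obtain ⟨g, hg, e⟩ := mem_orb.1 hz
    obtain ⟨hgK, hgx⟩ := mem_ptStab.1 hg
    refine mem_orb.2 ⟨k * g * k⁻¹, mem_ptStab.2 ⟨mul_mem (mul_mem hk hgK) (inv_mem hk), ?_⟩, ?_⟩
    · simp [hgx]
    · simp [e]

theorem sub_map {k : Equiv.Perm GolayPt} (hk : k ∈ K) (x y : GolayPt) : sub K (k x) (k y) = sub K x y := by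
  rw [sub, orb_map hk, Finset.card_map, sub]

theorem nbr_map {k : Equiv.Perm GolayPt} (hk : k ∈ K) (P : ℕ → Prop) (x : GolayPt) :
    nbr K P (k x) = (nbr K P x).map k.toEmbedding := by
  ext z
  rw [Finset.mem_map_equiv, mem_nbr, mem_nbr]
  obtain ⟨w, rfl⟩ := k.surjective z
  simp [sub_map hk]

theorem card_nbr (htr : ∀ x, orb K x = Finset.univ) (P : ℕ → Prop) (x y : GolayPt) :
    (nbr K P x).card = (nbr K P y).card := by
  obtain ⟨k, hk, rfl⟩ := mem_orb.1 (htr x ▸ Finset.mem_univ y : y ∈ orb K x)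
  rw [nbr_map hk, Finset.card_map]

theorem mem_nbr_comm (htr : ∀ x, orb K x = Finset.univ) {P : ℕ → Prop} {x y : GolayPt} :
    y ∈ nbr K P x ↔ x ∈ nbr K P y := by
  rw [mem_nbr, mem_nbr, sub_symm htr x y, ne_comm]

theorem nbr_inv {g : Equiv.Perm GolayPt} {x : GolayPt} (hg : g ∈ ptStab K x) (P : ℕ → Prop) :
    ∀ y ∈ nbr K P x, g y ∈ nbr K P x := by
  intro y hy
  have h := nbr_map (mem_ptStab.1 hg).1 P x
  rw [(mem_ptStab.1 hg).2] at h
  rw [h]
  exact Finset.mem_map_of_mem _ hy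

end CfsgLib.M24Idx
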