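import Cfsg.Agent.Lib.M24Idx.Transitive

/-!
# Orbits of subgroups of indices 253, 276 and 759
-/

set_option autoImplicit false

namespace CfsgLib.M24Idx

open Cfsg CfsgLib.Golay CfsgLib.M24Cert

open scoped Pointwise

variable {K : Subgroup (Equiv.Perm GolayPt)}

theorem orb_mem_list (hK : K ≤ M24) {N : ℕ} (hN : Nat.card ↥K = N) (x : GolayPt) :
    (orb K x).card ∈ (Finset.Icc 1 24).filter fun k => N % k = 0 ∧ 10200960 % (N / k) = 0 := by
  have h := card_orb_mul (K := K) x
  rw [hN] at h
  refine Finset.mem_filter.2 ⟨Finset.mem_Icc.2 ⟨card_orb_pos x, card_orb_le x⟩, ?_, ?_⟩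
  · exact Nat.mod_eq_zero_of_dvd (Dvd.intro_left _ h)
  · rw [show N / (orb K x).card = Nat.card ↥(ptStab K x) by rw [← h, Nat.mul_div_cancel _ (card_orb_pos x)]]
    exact Nat.mod_eq_zero_of_dvd (stab_dvd hK x)

theorem transitive_of_one {x : GolayPt} (h : (orb K x).card = 24) (y : GolayPt) : orb K y = Finset.univ := by
  have e : orb K x = Finset.univ := Finset.eq_univ_of_card _ (h.trans card_pt.symm)
  rw [orb_eq_of_mem (e ▸ Finset.mem_univ y : y ∈ orb K x), e]

theorem orb_smul {k : Equiv.Perm GolayPt} (hk : k ∈ K) (x : GolayPt) : k • orb K x = orb K x := by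
  refine Finset.eq_of_subset_of_card_le (fun z hz => ?_) (by rw [Finset.card_smul_finset])
  obtain ⟨w, hw, rfl⟩ := Finset.mem_smul_finset.1 hz
  exact orb_inv hk hw

theorem exists_elem {p : ℕ} (hp5 : p = 5 ∨ p = 7 ∨ p = 11) (hK : K ≤ M24) (h : p ∣ Nat.card ↥K) :
    ∃ g ∈ K, orderOf g = p ∧ (fixF g).card = 24 % p := by
  have hp : Fact p.Prime := ⟨by rcases hp5 with rfl | rfl | rfl <;> norm_num⟩
  obtain ⟨g, hg, ho⟩ := exists_mem_order h
  exact ⟨g, hg, ho, fix_card hp5 (hK hg) ho⟩

theorem orb_residue {p : ℕ} [Fact p.Prime] {g : Equiv.Perm GolayPt} (hg : g ∈ K) (ho : orderOf g = p)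
    {n : ℕ} (hf : (fixF g).card = n) (hn : n < p) (x : GolayPt) : (orb K x).card % p ≤ n := by
  have h := card_modEq ho (X := orb K x) fun y hy => orb_inv hg hy
  have hle : (orb K x ∩ fixF g).card ≤ n := hf ▸ Finset.card_le_card Finset.inter_subset_right
  rw [h, Nat.mod_eq_of_lt (hle.trans_lt hn)]
  exact hle

/-- Order `967680` does not occur. -/
theorem not_two_five_three (hK : K ≤ M24) (hN : Nat.card ↥K = 967680) : False := by
  have hmem := orb_mem_list hK hN (pt 0)
  rw [show (Finset.Icc 1 24).filter (fun k => 967680 % k = 0 ∧ 10200960 % (967680 / k) = 0) = {24} by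
    decide +kernel, Finset.mem_singleton] at hmem
  exact not_transitive hK (transitive_of_one hmem) (by rw [hN]; norm_num) (by rw [hN]; norm_num)
    (by rw [hN]; norm_num) (by rw [hN]; norm_num)

/-- Order `887040` stabilises a pair. -/
theorem exists_pair (hK : K ≤ M24) (hN : Nat.card ↥K = 887040) :
    ∃ s : Finset GolayPt, s.card = 2 ∧ ∀ k ∈ K, k • s = s := by
  have := prime_seven
  have := prime_eleven
  obtain ⟨g7, hg7, ho7, hf7⟩ := exists_elem (Or.inr (Or.inl rfl)) hK (by rw [hN]; norm_num)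
  obtain ⟨g11, hg11, ho11, hf11⟩ := exists_elem (Or.inr (Or.inr rfl)) hK (by rw [hN]; norm_num)
  have hlist : ∀ x, (orb K x).card = 2 ∨ (orb K x).card = 22 ∨ (orb K x).card = 24 := by
    intro x
    have h1 := orb_mem_list hK hN x
    have h2 := orb_residue hg7 ho7 hf7 (by norm_num) x
    have h3 := orb_residue hg11 ho11 hf11 (by norm_num) x
    have h4 : ∀ k ∈ (Finset.Icc 1 24).filter (fun k => 887040 % k = 0 ∧ 10200960 % (887040 / k) = 0),
        k % 7 ≤ 24 % 7 → k % 11 ≤ 24 % 11 → k = 2 ∨ k = 22 ∨ k = 24 := by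
      decide +kernel
    exact h4 _ h1 h2 h3
  suffices h : ∃ x, (orb K x).card = 2 by
    obtain ⟨x, hx⟩ := h
    exact ⟨_, hx, fun k hk => orb_smul hk x⟩
  rcases hlist (pt 0) with h | h | h
  · exact ⟨_, h⟩
  · obtain ⟨y, -, hy⟩ := Finset.exists_mem_notMem_of_card_lt_card
      (show (orb K (pt 0)).card < (Finset.univ : Finset GolayPt).card by rw [h, Finset.card_univ, card_pt]; norm_num)
    have hd := Finset.card_le_univ (orb K (pt 0) ∪ orb K y)
    rw [Finset.card_union_of_disjoint (orb_disjoint hy), card_pt, h] at hd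
    rcases hlist y with e | e | e
    exacts [⟨y, e⟩, absurd hd (by omega), absurd hd (by omega)]
  · exact (not_transitive_eleven hK (transitive_of_one h) hN).elim

/-- Order `322560` stabilises an octad. -/
theorem exists_octad (hK : K ≤ M24) (hN : Nat.card ↥K = 322560) : ∃ o ∈ octads, ∀ k ∈ K, k • o = o := by
  classical
  have := prime_five
  obtain ⟨g, hg, ho, hf⟩ := exists_elem (Or.inl rfl) hK (by rw [hN]; norm_num)
  have hlist : ∀ x, (orb K x).card = 8 ∨ (orb K x).card = 16 := by
    intro x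
    have h1 := orb_mem_list hK hN x
    rw [show (Finset.Icc 1 24).filter (fun k => 322560 % k = 0 ∧ 10200960 % (322560 / k) = 0) = {8, 16, 24} by
      decide +kernel] at h1
    simp only [Finset.mem_insert, Finset.mem_singleton] at h1
    rcases h1 with h | h | h
    exacts [Or.inl h, Or.inr h, (not_transitive hK (transitive_of_one h) (by rw [hN]; norm_num)
      (by rw [hN]; norm_num) (by rw [hN]; norm_num) (by rw [hN]; norm_num)).elim]
  have hfix : ∀ x, 1 ≤ (orb K x ∩ fixF g).card ∧ ((orb K x).card = 8 → (orb K x ∩ fixF g).card = 3) := by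
    intro x
    have h := card_modEq ho (X := orb K x) fun y hy => orb_inv hg hy
    have hle : (orb K x ∩ fixF g).card ≤ 4 := (Finset.card_le_card Finset.inter_subset_right).trans_eq hf
    rcases hlist x with e | e <;> rw [e] at h <;> omega
  obtain ⟨x, hx⟩ : ∃ x, (orb K x).card = 8 := by
    rcases hlist (pt 0) with h | h
    · exact ⟨_, h⟩
    · obtain ⟨y, -, hy⟩ := Finset.exists_mem_notMem_of_card_lt_card
        (show (orb K (pt 0)).card < (Finset.univ : Finset GolayPt).card by rw [h, Finset.card_univ, card_pt]; norm_num)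
      have hd := Finset.card_le_univ (orb K (pt 0) ∪ orb K y)
      rw [Finset.card_union_of_disjoint (orb_disjoint hy), card_pt, h] at hd
      rcases hlist y with e | e
      exacts [⟨y, e⟩, absurd hd (by omega)]
  set O := orb K x with hO
  have hO3 : (O ∩ fixF g).card = 3 := (hfix x).2 hx
  have hout : (fixF g \ O).card = 1 := by
    rw [Finset.card_sdiff, Finset.inter_comm, Finset.inter_comm] at *
    omega
  have hgO : ∀ y ∈ O, g y ∈ O := fun y hy => orb_inv hg hy
  set C := O \ fixF g with hC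
  have hC5 : C.card = 5 := by rw [hC, Finset.card_sdiff, Finset.inter_comm, hO3, hx]
  obtain ⟨B, ⟨hB, hCB⟩, huniq⟩ := octads_steiner.2 C hC5
  have hgC : g • C = C := by
    refine Finset.eq_of_subset_of_card_le (fun z hz => ?_) (by rw [Finset.card_smul_finset])
    obtain ⟨w, hw, rfl⟩ := Finset.mem_smul_finset.1 hz
    rw [hC, Finset.mem_sdiff, mem_fixF] at hw ⊢
    exact ⟨hgO w hw.1, fun e => hw.2 (g.injective e)⟩
  have hgB : g • B = B := huniq _ ⟨(octads_smul_iff (hK hg) B).2 hB, by
    rw [← hgC]; exact Finset.smul_finset_subset_smul_finset hCB⟩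
  have hrest : (B \ C) ⊆ fixF g := by
    have hinv : ∀ z ∈ B \ C, g z ∈ B \ C := by
      intro z hz
      rw [Finset.mem_sdiff] at hz ⊢
      refine ⟨hgB ▸ Finset.smul_mem_smul_finset hz.1, fun h => hz.2 ?_⟩
      rw [← hgC, Finset.mem_smul_finset] at h
      obtain ⟨w, hw, e⟩ := h
      exact g.injective e ▸ hw
    have h := card_modEq ho hinv
    have h3 : (B \ C).card = 3 := by rw [Finset.card_sdiff_of_subset hCB, hB.2, hC5]
    have hle := Finset.card_le_card (Finset.inter_subset_left : B \ C ∩ fixF g ⊆ B \ C)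
    have e : B \ C ∩ fixF g = B \ C := Finset.eq_of_subset_of_card_le Finset.inter_subset_left (by omega)
    exact e ▸ Finset.inter_subset_right
  have hsmall : (B \ O).card ≤ 1 := hout ▸ Finset.card_le_card fun z hz => by
    rw [Finset.mem_sdiff] at hz ⊢
    exact ⟨hrest (Finset.mem_sdiff.2 ⟨hz.1, fun h => hz.2 (Finset.mem_sdiff.1 h).1⟩), hz.2⟩
  refine ⟨O, ?_, fun k hk => orb_smul hk x⟩
  by_cases hsub : O ⊆ B
  · rw [Finset.eq_of_subset_of_card_le hsub (by rw [hB.2, hx])]; exact hB
  exfalso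
  obtain ⟨o, hoO, hoB⟩ := Finset.not_subset.1 hsub
  have herase : O.erase o ⊆ B := by
    have e : (B ∩ O) = O.erase o := by
      refine Finset.eq_of_subset_of_card_le (fun z hz => ?_) ?_
      · obtain ⟨h1, h2⟩ := Finset.mem_inter.1 hz
        exact Finset.mem_erase.2 ⟨fun e => hoB (e ▸ h1), h2⟩
      · have h := Finset.card_sdiff_add_card_inter B O
        rw [hB.2] at h
        rw [Finset.card_erase_of_mem hoO, hx]
        omega
    exact e ▸ Finset.inter_subset_left
  obtain ⟨o', ho', hne⟩ := Finset.exists_mem_ne (show 1 < O.card by rw [hx]; norm_num) o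
  obtain ⟨k, hk, hko⟩ := mem_orb.1 (show o' ∈ orb K o by rw [orb_eq_of_mem hoO]; exact ho')
  have hB' : O.erase o' ⊆ k • B := by
    intro z hz
    obtain ⟨hzne, hzO⟩ := Finset.mem_erase.1 hz
    have hzk : z ∈ k • O := by rw [hO, orb_smul hk]; exact hzO
    obtain ⟨w, hw, rfl⟩ := Finset.mem_smul_finset.1 hzk
    exact Finset.smul_mem_smul_finset (herase (Finset.mem_erase.2 ⟨fun e => hzne (e ▸ hko), hw⟩))
  have heq : B = k • B := octad_unique hB ((octads_smul_iff (hK hk) B).2 hB) (by
    have hs : (O.erase o).erase o' ⊆ B ∩ k • B := fun z hz => by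
      obtain ⟨h1, h2⟩ := Finset.mem_erase.1 hz
      exact Finset.mem_inter.2 ⟨herase h2, hB' (Finset.mem_erase.2 ⟨h1, (Finset.mem_erase.1 h2).2⟩)⟩
    have := Finset.card_le_card hs
    rw [Finset.card_erase_of_mem (Finset.mem_erase.2 ⟨hne, ho'⟩), Finset.card_erase_of_mem hoO, hx] at this
    omega)
  exact hoB (heq ▸ hB' (Finset.mem_erase.2 ⟨hne.symm, hoO⟩))

end CfsgLib.M24Idx
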