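import Cfsg.Agent.Lib.M24Idx.Sextet
import Cfsg.Agent.Lib.M24Cert.SextetStab
import Cfsg.Agent.Lib.M24Cert.SmallSets

/-!
# The order of a pair stabiliser
-/

set_option autoImplicit false

namespace CfsgLib.M24Idx

open Cfsg CfsgLib.Golay CfsgLib.M24Cert

open scoped Pointwise

theorem card_stab_two {s : Finset GolayPt} (hs : s.card = 2) :
    Nat.card ↥(MulAction.stabilizer M24 s) = 887040 := by
  have h := (MulAction.stabilizer ↥M24 s).card_mul_index
  rw [MulAction.index_stabilizer, card_M24] at h
  have e : MulAction.orbit ↥M24 s = ↑((Finset.univ : Finset GolayPt).powersetCard 2) := by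
    ext t
    rw [Finset.mem_coe, Finset.mem_powersetCard]
    constructor
    · rintro ⟨g, rfl⟩
      exact ⟨Finset.subset_univ _, (card_smul_iff g.1 s 2).2 hs⟩
    · intro ht
      obtain ⟨a, ha, e1⟩ := pair_map hs
      obtain ⟨b, hb, e2⟩ := pair_map ht.2
      refine ⟨⟨b * a⁻¹, mul_mem hb (inv_mem ha)⟩, ?_⟩
      show (b * a⁻¹) • s = t
      rw [mul_smul, ← e1, inv_smul_smul, e2]
  rw [e, Set.ncard_coe_finset, Finset.card_powersetCard, Finset.card_univ, card_pt,
    show Nat.choose 24 2 = 276 from by decide] at h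
  omega

end CfsgLib.M24Idx
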