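import Cfsg.Agent.Lib.M24Idx.Orbits
import Cfsg.Agent.Lib.Solvable.Basic

/-!
# Subgroups of index 1771
-/

set_option autoImplicit false

namespace CfsgLib.M24Idx

open Cfsg CfsgLib.Golay CfsgLib.M24Cert

open scoped Pointwise

variable {K : Subgroup (Equiv.Perm GolayPt)}

/-- A subgroup containing a Sylow two-subgroup contains the pointwise stabiliser of an octad. -/
theorem exists_octad_kernel (hK : K ≤ M24) (h2 : 2 ^ 10 ∣ Nat.card ↥K) :
    ∃ O ∈ octads, M24 ⊓ fixingSubgroup (Equiv.Perm GolayPt) (O : Set GolayPt) ≤ K := by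
  classical
  have := Fact.mk Nat.prime_two
  obtain ⟨S₀, hS₀⟩ := Sylow.exists_subgroup_card_pow_prime 2 h2
  set S := S₀.map K.subtype with hSdef
  have hSK : S ≤ K := Subgroup.map_subtype_le _
  have hScard : Nat.card ↥S = 2 ^ 10 := by rw [hSdef, Subgroup.card_map_of_injective K.subtype_injective, hS₀]
  have hS2 : IsPGroup 2 ↥S := IsPGroup.of_card hScard
  letI : MulAction ↥S ↥octads :=
    { smul := fun g o => ⟨(g : Equiv.Perm GolayPt) • o.1, (octads_smul_iff (hK (hSK g.2)) _).2 o.2⟩
      one_smul := fun o => Subtype.ext (one_smul (Equiv.Perm GolayPt) o.1)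
      mul_smul := fun g h o => Subtype.ext (mul_smul (g : Equiv.Perm GolayPt) (h : Equiv.Perm GolayPt) o.1) }
  have hcard : Nat.card ↥octads = 759 := by
    obtain ⟨o, ho⟩ : ∃ o, o ∈ octads := ⟨_, baseOctad_mem⟩
    have h := (MulAction.stabilizer ↥M24 o).card_mul_index
    rw [MulAction.index_stabilizer, card_M24, card_stab_octad ho] at h
    have e : MulAction.orbit ↥M24 o = octads := by
      ext o'
      constructor
      · rintro ⟨g, rfl⟩; exact (octads_smul_iff g.2 o).2 ho
      · intro ho'
        obtain ⟨a, ha, rfl⟩ := octads_transitive ho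
        obtain ⟨b, hb, rfl⟩ := octads_transitive ho'
        exact ⟨⟨b * a⁻¹, mul_mem hb (inv_mem ha)⟩, by
          show (b * a⁻¹) • a • toSet baseOctad = b • toSet baseOctad
          rw [← mul_smul, inv_mul_cancel_right]⟩
    rw [e] at h
    rw [Nat.card_coe_set_eq]
    omega
  obtain ⟨⟨O, hO⟩, hfix⟩ := hS2.nonempty_fixed_point_of_prime_not_dvd_card ↥octads (by rw [hcard]; norm_num)
  refine ⟨O, hO, ?_⟩
  set W := M24 ⊓ fixingSubgroup (Equiv.Perm GolayPt) (O : Set GolayPt) with hW
  have hW2 : IsPGroup 2 ↥W := IsPGroup.of_card (n := 4) (octad_pointwise hO).1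
  have hnorm : S ≤ Subgroup.normalizer (W : Set (Equiv.Perm GolayPt)) := by
    intro s hs
    refine CfsgLib.Solvable.mem_normalizer_of_conj_mem fun w hw => ?_
    refine Subgroup.mem_inf.2 ⟨mul_mem (mul_mem (hK (hSK hs)) hw.1) (inv_mem (hK (hSK hs))), ?_⟩
    refine (mem_fixingSubgroup_iff _).2 fun y hy => ?_
    have hsO : s • O = O := congrArg Subtype.val (hfix ⟨s, hs⟩)
    have hy' : s⁻¹ y ∈ O := by
      rw [Finset.mem_coe, ← hsO] at hy
      obtain ⟨z, hz, rfl⟩ := Finset.mem_smul_finset.1 hy
      simpa using hz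
    have hw' : w (s⁻¹ y) = s⁻¹ y := (mem_fixingSubgroup_iff _).1 hw.2 _ hy'
    show (s * w * s⁻¹) y = y
    rw [Equiv.Perm.mul_apply, Equiv.Perm.mul_apply, hw']
    exact s.apply_symm_apply y
  have hsup := hS2.to_sup_of_normal_right' hW2 hnorm
  obtain ⟨n, hn⟩ := IsPGroup.iff_card.1 hsup
  have hle : S ⊔ W ≤ M24 := sup_le (hSK.trans hK) inf_le_left
  have hd := Subgroup.card_dvd_of_le hle
  rw [hn, card_M24] at hd
  have hn10 : n ≤ 10 := by
    by_contra hgt
    exact absurd ((pow_dvd_pow 2 (by omega : 11 ≤ n)).trans hd) (by norm_num)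
  have e : S = S ⊔ W := Subgroup.eq_of_le_of_card_ge le_sup_left
    (by rw [hn, hScard]; exact Nat.pow_le_pow_right (by norm_num) hn10)
  exact (le_sup_right.trans e.ge).trans hSK

/-- The pointwise stabiliser of an octad is transitive outside it. -/
theorem kernel_transitive {O : Finset GolayPt} (hO : O ∈ octads) {p q : GolayPt} (hp : p ∉ O) (hq : q ∉ O) :
    ∃ w ∈ M24 ⊓ fixingSubgroup (Equiv.Perm GolayPt) (O : Set GolayPt), w p = q := by
  set W := M24 ⊓ fixingSubgroup (Equiv.Perm GolayPt) (O : Set GolayPt) with hW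
  have hfixW : ∀ w ∈ W, ∀ x ∈ O, w x = x := fun w hw x hx => (mem_fixingSubgroup_iff _).1 hw.2 x hx
  have hmaps : ∀ w ∈ W, w p ∈ Oᶜ := fun w hw => by
    rw [Finset.mem_compl]
    exact fun h => hp (w.injective (hfixW w hw _ h) ▸ h)
  let f : ↥W → {x // x ∈ Oᶜ} := fun w => ⟨(w : Equiv.Perm GolayPt) p, hmaps _ w.2⟩
  have hinj : Function.Injective f := fun u v h => by
    refine Subtype.ext (inv_mul_eq_one.1 (octPointStab_fix hO hp (g := (v : Equiv.Perm GolayPt)⁻¹ * u)
      (mul_mem (inv_mem v.2.1) u.2.1) (fun x hx => ?_) ?_)).symm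
    · rw [Equiv.Perm.mul_apply, hfixW u u.2 x hx, Equiv.Perm.inv_eq_iff_eq, hfixW v v.2 x hx]
    · rw [Equiv.Perm.mul_apply, Equiv.Perm.inv_eq_iff_eq]
      exact congrArg Subtype.val h
  haveI : Fintype ↥W := Fintype.ofFinite _
  have hb : Function.Bijective f := (Fintype.bijective_iff_injective_and_card f).2 ⟨hinj, by
    rw [← Nat.card_eq_fintype_card, (octad_pointwise hO).1, Fintype.card_coe, Finset.card_compl, card_pt, hO.2]⟩
  obtain ⟨w, hw⟩ := hb.2 ⟨q, Finset.mem_compl.2 hq⟩
  exact ⟨w, w.2, congrArg Subtype.val hw⟩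

/-- The neighbours together with the point. -/
noncomputable def blk (K : Subgroup (Equiv.Perm GolayPt)) (x : GolayPt) : Finset GolayPt :=
  insert x (nbr K (fun t => t < 16) x)

theorem blk_map {k : Equiv.Perm GolayPt} (hk : k ∈ K) (x : GolayPt) : blk K (k x) = k • blk K x := by
  rw [blk, blk, Finset.smul_finset_insert, Equiv.Perm.smul_def, nbr_map hk]
  congr 1
  ext z
  rw [Finset.mem_map_equiv, Finset.mem_smul_finset]
  constructor
  · intro h; exact ⟨_, h, k.apply_symm_apply z⟩
  · rintro ⟨w, hw, rfl⟩; simpa using hw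

set_option maxHeartbeats 800000 in
/-- Order `138240` stabilises a sextet. -/
theorem exists_sextet (hK : K ≤ M24) (hN : Nat.card ↥K = 138240) : ∃ S ∈ sextets, ∀ k ∈ K, k • S = S := by
  classical
  have := prime_five
  have htr : ∀ x, orb K x = Finset.univ := by
    have hmem := orb_mem_list hK hN (pt 0)
    rw [show (Finset.Icc 1 24).filter (fun k => 138240 % k = 0 ∧ 10200960 % (138240 / k) = 0) = {24} by
      decide +kernel, Finset.mem_singleton] at hmem
    exact transitive_of_one hmem
  obtain ⟨O, hO, hWK⟩ := exists_octad_kernel hK (by rw [hN]; norm_num)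
  set P : ℕ → Prop := fun t => t < 16 with hP
  have hcardA : ∀ x, Nat.card ↥(ptStab K x) = 5760 := fun x => by have := card_ptStab_eq htr x; omega
  -- neighbours of a point of the octad
  have hsub : ∀ x ∈ O, nbr K P x ⊆ O := by
    intro x hx z hz
    by_contra hzO
    have h16 : Oᶜ ⊆ orb (ptStab K x) z := fun q hq => by
      obtain ⟨w, hw, e⟩ := kernel_transitive hO hzO (Finset.mem_compl.1 hq)
      exact mem_orb.2 ⟨w, mem_ptStab.2 ⟨hWK hw, (mem_fixingSubgroup_iff _).1 hw.2 x hx⟩, e⟩
    have h := Finset.card_le_card h16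
    rw [Finset.card_compl, card_pt, hO.2] at h
    have h' : sub K x z < 16 := (mem_nbr.1 hz).2
    rw [sub] at h'
    omega
  obtain ⟨a, haO⟩ := Finset.card_pos.1 (show 0 < O.card by rw [hO.2]; norm_num)
  set n := (nbr K P a).card with hn
  have hcard : ∀ x, (nbr K P x).card = n := fun x => card_nbr htr P x a
  have hn357 : n = 3 ∨ n = 5 ∨ n = 7 := by
    obtain ⟨z, -, hzO⟩ := Finset.exists_mem_notMem_of_card_lt_card
      (show O.card < (Finset.univ : Finset GolayPt).card by rw [hO.2, Finset.card_univ, card_pt]; norm_num)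
    set U := orb (ptStab K a) z with hU
    have hOU : Oᶜ ⊆ U := fun q hq => by
      obtain ⟨w, hw, e⟩ := kernel_transitive hO hzO (Finset.mem_compl.1 hq)
      exact mem_orb.2 ⟨w, mem_ptStab.2 ⟨hWK hw, (mem_fixingSubgroup_iff _).1 hw.2 a haO⟩, e⟩
    have haU : a ∉ U := fun h => by
      obtain ⟨k, hk, e⟩ := mem_orb.1 h
      exact hzO (k.injective (e.trans (mem_ptStab.1 hk).2.symm) ▸ haO)
    have h16 : 16 ≤ U.card := by
      have := Finset.card_le_card hOU
      rwa [Finset.card_compl, card_pt, hO.2] at this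
    have he : nbr K P a = Finset.univ \ insert a U := by
      ext y
      simp only [mem_nbr, Finset.mem_sdiff, Finset.mem_univ, true_and, Finset.mem_insert, not_or]
      refine ⟨fun ⟨h1, h2⟩ => ⟨h1, fun h => ?_⟩, fun ⟨h1, h2⟩ => ⟨h1, ?_⟩⟩
      · have : sub K a y = U.card := by rw [sub, orb_eq_of_mem h]
        change sub K a y < 16 at h2
        omega
      · have hd := Finset.card_le_univ (U ∪ orb (ptStab K a) y)
        rw [Finset.card_union_of_disjoint (orb_disjoint h2), card_pt, ← hU] at hd
        show sub K a y < 16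
        rw [sub]
        omega
    have hne : U.card ∣ 5760 := hcardA a ▸ sub_dvd a z
    have hU23 : U.card ≤ 23 := by
      have := Finset.card_le_univ (insert a U)
      rw [Finset.card_insert_of_notMem haU, card_pt] at this
      omega
    have hn' : n = 23 - U.card := by
      rw [hn, he, Finset.card_sdiff_of_subset (Finset.subset_univ _), Finset.card_univ, card_pt,
        Finset.card_insert_of_notMem haU]
      omega
    have hlist : ∀ u ∈ Finset.Icc 16 23, 5760 % u = 0 → 23 - u = 3 ∨ 23 - u = 5 ∨ 23 - u = 7 := by decide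
    rw [hn']
    exact hlist _ (Finset.mem_Icc.2 ⟨h16, hU23⟩) (Nat.mod_eq_zero_of_dvd hne)
  obtain ⟨g, hg, ho, hf, hag⟩ := exists_fixing (Or.inl rfl) hK htr (by rw [hN]; norm_num) a
  have hgK := (mem_ptStab.1 hg).1
  rcases hn357 with h3 | h5 | h7
  · -- tetrads
    have hF : ∀ x ∈ fixF g, blk K x = fixF g := by
      intro x hx
      have hc := count_in_fix hgK ho hx P
      rw [hcard x, h3] at hc
      have hle := Finset.card_le_card (Finset.inter_subset_left : nbr K P x ∩ fixF g ⊆ _)
      rw [hcard x, h3] at hle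
      have e : nbr K P x ∩ fixF g = nbr K P x :=
        Finset.eq_of_subset_of_card_le Finset.inter_subset_left (by rw [hcard x, h3]; omega)
      refine Finset.eq_of_subset_of_card_le ?_ ?_
      · exact Finset.insert_subset hx (e ▸ Finset.inter_subset_right)
      · rw [blk, Finset.card_insert_of_notMem (self_not_mem_nbr P x), hcard x, h3, hf]
    have hblk : ∀ x y, y ∈ blk K x → blk K y = blk K x := by
      intro x y hy
      obtain ⟨k, hk, rfl⟩ := mem_orb.1 (htr a ▸ Finset.mem_univ x : x ∈ orb K a)
      rw [blk_map hk] at hy ⊢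
      obtain ⟨w, hw, rfl⟩ := Finset.mem_smul_finset.1 hy
      rw [hF a hag] at hw
      rw [Equiv.Perm.smul_def, blk_map hk, hF w hw, hF a hag]
    have hb4 : ∀ x, (blk K x).card = 4 := fun x => by
      rw [blk, Finset.card_insert_of_notMem (self_not_mem_nbr P x), hcard x, h3]
    set T := blk K a with hT
    have hTO : T ⊆ O := Finset.insert_subset haO (hsub a haO)
    obtain ⟨p, hpO, hpT⟩ := Finset.exists_mem_notMem_of_card_lt_card
      (show T.card < O.card by rw [hb4, hO.2]; norm_num)
    have hself : ∀ x, x ∈ blk K x := fun x => Finset.mem_insert_self _ _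
    have hdisj : ∀ x y, blk K x ≠ blk K y → Disjoint (blk K x) (blk K y) := fun x y h =>
      Finset.disjoint_left.2 fun z h1 h2 => h ((hblk x z h1).symm.trans (hblk y z h2))
    have hpne : blk K p ≠ T := fun h => hpT (h ▸ hself p)
    have hunion : T ∪ blk K p = O := Finset.eq_of_subset_of_card_le
      (Finset.union_subset hTO (Finset.insert_subset hpO (hsub p hpO)))
      (by rw [Finset.card_union_of_disjoint (hdisj a p hpne.symm), hb4, hb4, hO.2])
    have hgi : ∀ i : ℕ, g ^ i ∈ K := fun i => pow_mem hgK i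
    have hfixT : ∀ i : ℕ, (g ^ i) • T = T := fun i => by
      rw [hT, ← blk_map (hgi i), Equiv.Perm.pow_apply_eq_self_of_apply_eq_self (mem_ptStab.1 hg).2]
    have hinj : ∀ i < 5, ∀ j < 5, i < j → blk K ((g ^ i) p) ≠ blk K ((g ^ j) p) := by
      intro i hi j hj hij e
      have e2 : (g ^ (j - i)) • blk K p = blk K p := by
        have q : g ^ j = g ^ i * g ^ (j - i) := by rw [← pow_add]; congr 1; omega
        rw [blk_map (hgi i), blk_map (hgi j), q, mul_smul] at e
        exact (smul_left_cancel _ e).symm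
      have hoj : orderOf (g ^ (j - i)) = 5 := by
        rw [orderOf_pow, ho, Nat.Coprime.gcd_eq_one, Nat.div_one]
        have : j - i = 1 ∨ j - i = 2 ∨ j - i = 3 ∨ j - i = 4 := by omega
        rcases this with h | h | h | h <;> rw [h] <;> decide
      have hc := card_modEq hoj (X := blk K p) fun z hz => e2 ▸ Finset.smul_mem_smul_finset hz
      rw [hb4] at hc
      have hle := Finset.card_le_card (Finset.inter_subset_left : blk K p ∩ fixF (g ^ (j - i)) ⊆ _)
      rw [hb4] at hle
      obtain ⟨z, hz⟩ := Finset.card_pos.1 (show 0 < (blk K p ∩ fixF (g ^ (j - i))).card by omega)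
      obtain ⟨hz1, hz2⟩ := Finset.mem_inter.1 hz
      have hF' : fixF g = fixF (g ^ (j - i)) := Finset.eq_of_subset_of_card_le
        (fun w hw => mem_fixF.2 (Equiv.Perm.pow_apply_eq_self_of_apply_eq_self (mem_fixF.1 hw) _))
        (by rw [fix_card (Or.inl rfl) (hK (hgi _)) hoj, hf])
      exact hpne ((hblk p z hz1).symm.trans ((hF z (hF' ▸ hz2)).trans (hF a hag).symm))
    have hne' : ∀ i : ℕ, blk K ((g ^ i) p) ≠ T := fun i h => hpne (by
      rw [blk_map (hgi i), ← hfixT i] at h
      exact smul_left_cancel _ h)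
    have hoct : ∀ x, blk K x ≠ T → T ∪ blk K x ∈ octads := by
      intro x hx
      set L := (Finset.range 5).biUnion fun i => blk K ((g ^ i) p) with hL
      have hLc : L.card = 20 := by
        rw [hL, Finset.card_biUnion, Finset.sum_congr rfl fun i _ => hb4 _, Finset.sum_const, Finset.card_range]
        · rfl
        · intro i hi j hj hij
          rw [Finset.coe_range, Set.mem_Iio] at hi hj
          refine hdisj _ _ ?_
          rcases Nat.lt_or_gt_of_ne hij with h | h
          · exact hinj i hi j hj h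
          · exact (hinj j hj i hi h).symm
      have hLT : Disjoint T L := by
        rw [hL, Finset.disjoint_biUnion_right]
        exact fun i _ => hdisj _ _ (hne' i).symm
      have huniv : T ∪ L = Finset.univ := Finset.eq_univ_of_card _
        (by rw [Finset.card_union_of_disjoint hLT, hb4, hLc, card_pt])
      have hxm := huniv.symm ▸ Finset.mem_univ x
      rw [Finset.mem_union] at hxm
      rcases hxm with h | h
      · exact absurd (hblk a x h) hx
      obtain ⟨i, -, hi⟩ := Finset.mem_biUnion.1 h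
      rw [hblk _ x hi, blk_map (hgi i), ← hfixT i, ← Finset.smul_finset_union, hunion]
      exact (octads_smul_iff (hK (hgi i)) O).2 hO
    refine ⟨Finset.univ.image (blk K), ⟨?_, ?_, ?_⟩, fun k hk => ?_⟩
    · have h := Finset.card_eq_sum_card_fiberwise (f := blk K) (s := (Finset.univ : Finset GolayPt))
        (t := Finset.univ.image (blk K)) fun x _ => Finset.mem_image_of_mem _ (Finset.mem_univ x)
      rw [Finset.sum_const_nat (m := 4), Finset.card_univ, card_pt] at h
      · omega
      · intro B hB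
        obtain ⟨x, -, rfl⟩ := Finset.mem_image.1 hB
        rw [← hb4 x]
        congr 1
        ext y
        simp only [Finset.mem_filter, Finset.mem_univ, true_and]
        exact ⟨fun h => h ▸ hself y, fun h => hblk x y h⟩
    · intro B hB
      obtain ⟨x, -, rfl⟩ := Finset.mem_image.1 hB
      exact hb4 x
    · intro B hB B' hB' hne
      obtain ⟨x, -, rfl⟩ := Finset.mem_image.1 hB
      obtain ⟨y, -, rfl⟩ := Finset.mem_image.1 hB'
      obtain ⟨k, hk, rfl⟩ := mem_orb.1 (htr a ▸ Finset.mem_univ x : x ∈ orb K a)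
      obtain ⟨w, rfl⟩ := k.surjective y
      rw [blk_map hk, blk_map hk] at hne ⊢
      rw [← Finset.smul_finset_union]
      exact (octads_smul_iff (hK hk) _).2 (hoct w fun h => hne (by rw [h]))
    · refine Finset.eq_of_subset_of_card_le (fun B hB => ?_) (by rw [Finset.card_smul_finset])
      obtain ⟨C, hC, rfl⟩ := Finset.mem_smul_finset.1 hB
      obtain ⟨x, -, rfl⟩ := Finset.mem_image.1 hC
      exact Finset.mem_image.2 ⟨k x, Finset.mem_univ _, blk_map hk x⟩
  · -- five neighbours
    exfalso
    have hT : ∀ x ∈ O, ∀ y ∈ O \ nbr K P x, nbr K P y = nbr K P x := by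
      intro x hx y hy
      obtain ⟨gx, hgx, hox, hfx, hxx⟩ := exists_fixing (Or.inl rfl) hK htr (by rw [hN]; norm_num) x
      have hgxK := (mem_ptStab.1 hgx).1
      set C := nbr K P x with hC
      have hC5 : C.card = 5 := by rw [hC, hcard x, h5]
      obtain ⟨B, -, huniq⟩ := octads_steiner.2 C hC5
      have hgC : gx • C = C := by
        refine Finset.eq_of_subset_of_card_le (fun z hz => ?_) (by rw [Finset.card_smul_finset])
        obtain ⟨w, hw, rfl⟩ := Finset.mem_smul_finset.1 hz
        exact nbr_inv hgx P w hw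
      have hgO : gx • O = O := by
        rw [huniq _ ⟨(octads_smul_iff (hK hgxK) O).2 hO,
          hgC ▸ Finset.smul_finset_subset_smul_finset (hsub x hx)⟩, ← huniq O ⟨hO, hsub x hx⟩]
      have hCfix : C ∩ fixF gx = ∅ := by
        rw [← Finset.card_eq_zero]
        have h := count_in_fix hgxK hox hxx P
        rw [hcard x, h5] at h
        have hle : (C ∩ fixF gx).card ≤ ((fixF gx).erase x).card := Finset.card_le_card fun z hz => by
          obtain ⟨h1, h2⟩ := Finset.mem_inter.1 hz
          exact Finset.mem_erase.2 ⟨(mem_nbr.1 h1).1, h2⟩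
        rw [Finset.card_erase_of_mem hxx, hfx] at hle
        rw [← hC] at h
        omega
      have hrest : O \ C ⊆ fixF gx := by
        have h3' : (O \ C).card = 3 := by rw [Finset.card_sdiff_of_subset (hsub x hx), hO.2, hC5]
        have h := card_modEq hox (X := O \ C) fun z hz => by
          rw [← hgO, ← hgC, ← Finset.smul_finset_sdiff]
          exact Finset.smul_mem_smul_finset hz
        have hle := Finset.card_le_card (Finset.inter_subset_left : (O \ C) ∩ fixF gx ⊆ O \ C)
        exact (Finset.eq_of_subset_of_card_le (Finset.inter_subset_left : (O \ C) ∩ fixF gx ⊆ O \ C) (by omega)).ge.trans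
          Finset.inter_subset_right
      have hyf := hrest hy
      have hcy := count_in_fix hgxK hox hyf P
      rw [hcard y, h5] at hcy
      have hle : (nbr K P y ∩ fixF gx).card ≤ ((fixF gx).erase y).card := Finset.card_le_card fun z hz => by
        obtain ⟨h1, h2⟩ := Finset.mem_inter.1 hz
        exact Finset.mem_erase.2 ⟨(mem_nbr.1 h1).1, h2⟩
      rw [Finset.card_erase_of_mem hyf, hfx] at hle
      refine Finset.eq_of_subset_of_card_le (fun z hz => ?_) (by rw [hcard y, hC5, h5])
      by_contra hzC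
      have hzO : z ∈ O := hsub y (Finset.mem_sdiff.1 hy).1 hz
      have : 0 < (nbr K P y ∩ fixF gx).card :=
        Finset.card_pos.2 ⟨z, Finset.mem_inter.2 ⟨hz, hrest (Finset.mem_sdiff.2 ⟨hzO, hzC⟩)⟩⟩
      omega
    have hself : ∀ x ∈ O, x ∈ O \ nbr K P x := fun x hx => Finset.mem_sdiff.2 ⟨hx, self_not_mem_nbr P x⟩
    have hd : ∀ x ∈ O, ∀ y ∈ O, y ∉ O \ nbr K P x → Disjoint (O \ nbr K P x) (O \ nbr K P y) :=
      fun x hx y hy hn => Finset.disjoint_left.2 fun z h1 h2 => hn (by
        rw [← hT x hx z h1, hT y hy z h2]; exact hself y hy)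
    have hc3 : ∀ x ∈ O, (O \ nbr K P x).card = 3 := fun x hx => by
      rw [Finset.card_sdiff_of_subset (hsub x hx), hO.2, hcard x, h5]
    obtain ⟨b, hbO, hb⟩ := Finset.exists_mem_notMem_of_card_lt_card
      (show (O \ nbr K P a).card < O.card by rw [hc3 a haO, hO.2]; norm_num)
    set AB := (O \ nbr K P a) ∪ (O \ nbr K P b)
    have hAB : AB.card = 6 := by rw [Finset.card_union_of_disjoint (hd a haO b hbO hb), hc3 a haO, hc3 b hbO]
    obtain ⟨c, hcO, hcn⟩ := Finset.exists_mem_notMem_of_card_lt_card
      (show AB.card < O.card by rw [hAB, hO.2]; norm_num)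
    rw [Finset.mem_union, not_or] at hcn
    have hd3 : Disjoint AB (O \ nbr K P c) :=
      Finset.disjoint_union_left.2 ⟨hd a haO c hcO hcn.1, hd b hbO c hcO hcn.2⟩
    have := Finset.card_le_card (Finset.union_subset (Finset.union_subset Finset.sdiff_subset Finset.sdiff_subset)
      (Finset.sdiff_subset (t := nbr K P c)) : AB ∪ (O \ nbr K P c) ⊆ O)
    rw [Finset.card_union_of_disjoint hd3, hAB, hc3 c hcO, hO.2] at this
    omega
  · -- three octads
    exfalso
    have hblkO : ∀ x ∈ O, blk K x = O := fun x hx =>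
      Finset.eq_of_subset_of_card_le (Finset.insert_subset hx (hsub x hx))
        (by rw [blk, Finset.card_insert_of_notMem (self_not_mem_nbr P x), hcard x, h7, hO.2])
    have hblk : ∀ x y, y ∈ blk K x → blk K y = blk K x := by
      intro x y hy
      obtain ⟨k, hk, rfl⟩ := mem_orb.1 (htr a ▸ Finset.mem_univ x : x ∈ orb K a)
      rw [blk_map hk] at hy ⊢
      obtain ⟨w, hw, rfl⟩ := Finset.mem_smul_finset.1 hy
      rw [hblkO a haO] at hw
      rw [Equiv.Perm.smul_def, blk_map hk, hblkO w hw, hblkO a haO]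
    have hc8 : ∀ x, (blk K x).card = 8 := fun x => by
      rw [blk, Finset.card_insert_of_notMem (self_not_mem_nbr P x), hcard x, h7]
    have hfixc : ∀ x ∈ fixF g, (blk K x ∩ fixF g).card = 3 := by
      intro x hx
      have h := card_modEq ho (X := blk K x) fun z hz => by
        have e := blk_map hgK x
        rw [mem_fixF.1 hx] at e
        rw [e]
        exact Finset.smul_mem_smul_finset hz
      rw [hc8] at h
      have hle : (blk K x ∩ fixF g).card ≤ 4 := (Finset.card_le_card Finset.inter_subset_right).trans_eq hf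
      omega
    obtain ⟨e, hef, heO⟩ := Finset.exists_mem_notMem_of_card_lt_card
      (show (blk K a ∩ fixF g).card < (fixF g).card by rw [hfixc a hag, hf]; norm_num)
    have heO' : e ∉ blk K a := fun h => heO (Finset.mem_inter.2 ⟨h, hef⟩)
    have hd : Disjoint (blk K a ∩ fixF g) (blk K e ∩ fixF g) := Finset.disjoint_left.2 fun z h1 h2 => heO' (by
      rw [← hblk a z (Finset.mem_inter.1 h1).1, hblk e z (Finset.mem_inter.1 h2).1]
      exact Finset.mem_insert_self _ _)
    have := Finset.card_le_card (Finset.union_subset Finset.inter_subset_right Finset.inter_subset_right :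
      (blk K a ∩ fixF g) ∪ (blk K e ∩ fixF g) ⊆ fixF g)
    rw [Finset.card_union_of_disjoint hd, hfixc a hag, hfixc e hef, hf] at this
    omega

end CfsgLib.M24Idx
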