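import Cfsg.Agent.Lib.M24Idx.Basic

/-!
# Transitive subgroups with elements of orders five and seven
-/

set_option autoImplicit false

namespace CfsgLib.M24Idx

open Cfsg CfsgLib.Golay CfsgLib.M24Cert

variable {K : Subgroup (Equiv.Perm GolayPt)}

theorem prime_five : Fact (Nat.Prime 5) := ⟨by norm_num⟩
theorem prime_seven : Fact (Nat.Prime 7) := ⟨by norm_num⟩
theorem prime_eleven : Fact (Nat.Prime 11) := ⟨by norm_num⟩

theorem exists_fixing {p : ℕ} (hp5 : p = 5 ∨ p = 7 ∨ p = 11) (hK : K ≤ M24)
    (htr : ∀ x, orb K x = Finset.univ) (h : p ∣ Nat.card ↥K) (x : GolayPt) :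
    ∃ g ∈ ptStab K x, orderOf g = p ∧ (fixF g).card = 24 % p ∧ x ∈ fixF g := by
  have hp : Fact p.Prime := ⟨by rcases hp5 with rfl | rfl | rfl <;> norm_num⟩
  rw [← card_ptStab_eq htr x] at h
  have h' : p ∣ Nat.card ↥(ptStab K x) := by
    refine Nat.Coprime.dvd_of_dvd_mul_right ?_ h
    rcases hp5 with rfl | rfl | rfl <;> decide
  obtain ⟨g, hg, ho⟩ := exists_mem_order h'
  obtain ⟨hgK, hgx⟩ := mem_ptStab.1 hg
  exact ⟨g, hg, ho, fix_card hp5 (hK hgK) ho, mem_fixF.2 hgx⟩

theorem count_in_fix {p : ℕ} [Fact p.Prime] {g : Equiv.Perm GolayPt} (hg : g ∈ K) (ho : orderOf g = p)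
    {x : GolayPt} (hx : x ∈ fixF g) (P : ℕ → Prop) :
    (nbr K P x).card % p = (nbr K P x ∩ fixF g).card % p :=
  card_modEq ho (nbr_inv (mem_ptStab.2 ⟨hg, mem_fixF.1 hx⟩) P)

theorem orb_inv' {g : Equiv.Perm GolayPt} {a y : GolayPt} (hg : g ∈ ptStab K a) :
    ∀ z ∈ orb (ptStab K a) y, g z ∈ orb (ptStab K a) y := fun _ hz => orb_inv hg hz

theorem self_not_mem_nbr (P : ℕ → Prop) (x : GolayPt) : x ∉ nbr K P x := fun h => (mem_nbr.1 h).1 rfl

/-- At a point fixed by an element of order seven the two other fixed points have suborbits of equal size. -/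
theorem seven_equal (htr : ∀ x, orb K x = Finset.univ) {g : Equiv.Perm GolayPt} {a b c : GolayPt}
    (hg : g ∈ K) (ho : orderOf g = 7) (hF : fixF g = {a, b, c}) (hab : b ≠ a) (hac : c ≠ a) (hbc : b ≠ c) :
    sub K a b = sub K a c := by
  have := prime_seven
  by_contra hne
  set P : ℕ → Prop := fun t => t = sub K a b
  have key : ∀ x ∈ fixF g, (nbr K P x ∩ fixF g).card % 7 = (nbr K P a).card % 7 := fun x hx => by
    rw [← count_in_fix hg ho hx P, card_nbr htr P x a]
  have hb : b ∈ nbr K P a := mem_nbr.2 ⟨hab, rfl⟩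
  have hc : c ∉ nbr K P a := fun h => hne (mem_nbr.1 h).2.symm
  have e1 : nbr K P a ∩ fixF g = {b} := by
    ext z
    rw [hF]
    simp only [Finset.mem_inter, Finset.mem_insert, Finset.mem_singleton]
    constructor
    · rintro ⟨hz, rfl | rfl | rfl⟩
      exacts [absurd hz (self_not_mem_nbr P _), rfl, absurd hz hc]
    · rintro rfl; exact ⟨hb, Or.inr (Or.inl rfl)⟩
  have h1 : (nbr K P a).card % 7 = 1 := by
    rw [← key a (by rw [hF]; simp), e1, Finset.card_singleton]
  have hcb : c ∉ nbr K P b := by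
    intro hcb
    have h := key b (by rw [hF]; simp)
    rw [h1, show nbr K P b ∩ fixF g = {a, c} from ?_, Finset.card_pair hac.symm] at h
    · omega
    · ext z
      rw [hF]
      simp only [Finset.mem_inter, Finset.mem_insert, Finset.mem_singleton]
      constructor
      · rintro ⟨hz, rfl | rfl | rfl⟩
        exacts [Or.inl rfl, absurd hz (self_not_mem_nbr P _), Or.inr rfl]
      · rintro (rfl | rfl)
        exacts [⟨(mem_nbr_comm htr).1 hb, Or.inl rfl⟩, ⟨hcb, Or.inr (Or.inr rfl)⟩]
  have h := key c (by rw [hF]; simp)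
  rw [h1, show nbr K P c ∩ fixF g = ∅ from ?_, Finset.card_empty] at h
  · omega
  · ext z
    rw [hF]
    simp only [Finset.mem_inter, Finset.mem_insert, Finset.mem_singleton, Finset.notMem_empty, iff_false, not_and]
    intro hz
    rintro (rfl | rfl | rfl)
    exacts [hc ((mem_nbr_comm htr).1 hz), hcb ((mem_nbr_comm htr).1 hz), self_not_mem_nbr P _ hz]

theorem mem_three {s : Finset GolayPt} (h : s.card = 3) {a : GolayPt} (ha : a ∈ s) :
    ∃ b c, s = {a, b, c} ∧ b ≠ a ∧ c ≠ a ∧ b ≠ c := by
  have h2 : (s.erase a).card = 2 := by rw [Finset.card_erase_of_mem ha, h]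
  obtain ⟨b, c, hbc, e⟩ := Finset.card_eq_two.1 h2
  have hb : b ∈ s.erase a := by simp [e]
  have hc : c ∈ s.erase a := by simp [e]
  exact ⟨b, c, by rw [← Finset.insert_erase ha, e], (Finset.mem_erase.1 hb).1, (Finset.mem_erase.1 hc).1, hbc⟩

set_option maxHeartbeats 1600000 in
/-- No transitive subgroup has order divisible by five and seven but not by eleven or twenty-three. -/
theorem not_transitive (hK : K ≤ M24) (htr : ∀ x, orb K x = Finset.univ) (h5 : 5 ∣ Nat.card ↥K)
    (h7 : 7 ∣ Nat.card ↥K) (h11 : ¬ 11 ∣ Nat.card ↥K) (h23 : ¬ 23 ∣ Nat.card ↥K) : False := by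
  classical
  have := prime_five
  have := prime_seven
  set a := pt 0
  obtain ⟨g7, hg7, ho7, hf7, ha7⟩ := exists_fixing (Or.inr (Or.inl rfl)) hK htr h7 a
  obtain ⟨g5, hg5, ho5, hf5, ha5⟩ := exists_fixing (Or.inl rfl) hK htr h5 a
  have hdiv : ∀ x y, sub K x y ∣ Nat.card ↥K := fun x y =>
    (sub_dvd x y).trans (Dvd.intro _ (card_ptStab_eq htr x))
  obtain ⟨b, c, hF7, hba, hca, hbc⟩ := mem_three hf7 ha7
  have hbm : b ∈ fixF g7 := by simp [hF7]
  have hcm : c ∈ fixF g7 := by simp [hF7]
  have huv := seven_equal htr (mem_ptStab.1 hg7).1 ho7 hF7 hba hca hbc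
  set u := sub K a b with hu
  set P : ℕ → Prop := fun t => t = u
  -- the union of the suborbits of `b` and `c`
  have hN : nbr K P a = orb (ptStab K a) b ∪ orb (ptStab K a) c := by
    ext y
    rw [mem_nbr, Finset.mem_union]
    constructor
    · rintro ⟨hya, hy⟩
      by_contra hno
      rw [not_or] at hno
      have h := card_modEq ho7 (orb_inv' hg7 (y := y))
      have he : orb (ptStab K a) y ∩ fixF g7 = ∅ := by
        ext z
        simp only [Finset.mem_inter, Finset.notMem_empty, iff_false, not_and]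
        intro hz
        rw [hF7]
        simp only [Finset.mem_insert, Finset.mem_singleton]
        rintro (rfl | rfl | rfl)
        · obtain ⟨k, hk, e⟩ := mem_orb.1 hz
          exact hya (k.injective (e.trans (mem_ptStab.1 hk).2.symm))
        · exact hno.1 (orb_eq_of_mem hz ▸ self_mem_orb y)
        · exact hno.2 (orb_eq_of_mem hz ▸ self_mem_orb y)
      rw [he, Finset.card_empty] at h
      have hb := card_modEq ho7 (orb_inv' hg7 (y := b))
      have hpos : 0 < (orb (ptStab K a) b ∩ fixF g7).card :=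
        Finset.card_pos.2 ⟨b, Finset.mem_inter.2 ⟨self_mem_orb b, hbm⟩⟩
      have hle : (orb (ptStab K a) b ∩ fixF g7).card ≤ 3 := (Finset.card_le_card Finset.inter_subset_right).trans_eq hf7
      change sub K a y = u at hy
      rw [sub] at hy
      rw [hy] at h
      change (orb (ptStab K a) b).card % 7 = _ at hb
      rw [show (orb (ptStab K a) b).card = u from rfl] at hb
      omega
    · intro hy
      have hya : y ≠ a := by
        rintro rfl
        rcases hy with hy | hy <;> obtain ⟨k, hk, e⟩ := mem_orb.1 hy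
        · exact hba (k.injective (e.trans (mem_ptStab.1 hk).2.symm))
        · exact hca (k.injective (e.trans (mem_ptStab.1 hk).2.symm))
      refine ⟨hya, ?_⟩
      rcases hy with hy | hy
      · show sub K a y = u
        rw [sub, orb_eq_of_mem hy]; rfl
      · show sub K a y = u
        rw [huv, sub, orb_eq_of_mem hy]; rfl
  set n := (nbr K P a).card with hn
  have hn7 : n % 7 = 2 := by
    rw [hn, count_in_fix (mem_ptStab.1 hg7).1 ho7 ha7 P,
      show nbr K P a ∩ fixF g7 = {b, c} from ?_, Finset.card_pair hbc]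
    ext z
    rw [hF7, Finset.mem_inter, mem_nbr]
    simp only [Finset.mem_insert, Finset.mem_singleton]
    constructor
    · rintro ⟨⟨hza, -⟩, h⟩; exact h.resolve_left hza
    · rintro (rfl | rfl)
      exacts [⟨⟨hba, rfl⟩, Or.inr (Or.inl rfl)⟩, ⟨⟨hca, huv.symm⟩, Or.inr (Or.inr rfl)⟩]
  have hcount5 : ∀ x ∈ fixF g5, ∀ Q : ℕ → Prop, (nbr K Q x).card % 5 = (nbr K Q x ∩ fixF g5).card := by
    intro x hx Q
    rw [count_in_fix (mem_ptStab.1 hg5).1 ho5 hx Q]
    refine Nat.mod_eq_of_lt ?_
    have hle : (nbr K Q x ∩ fixF g5).card ≤ ((fixF g5).erase x).card := Finset.card_le_card fun z hz => by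
      obtain ⟨h1, h2⟩ := Finset.mem_inter.1 hz
      exact Finset.mem_erase.2 ⟨(mem_nbr.1 h1).1, h2⟩
    rw [Finset.card_erase_of_mem hx, hf5] at hle
    omega
  have hn5 : n % 5 ≤ 3 := by
    rw [hn, hcount5 a ha5 P]
    have hle : (nbr K P a ∩ fixF g5).card ≤ ((fixF g5).erase a).card := Finset.card_le_card fun z hz => by
      obtain ⟨h1, h2⟩ := Finset.mem_inter.1 hz
      exact Finset.mem_erase.2 ⟨(mem_nbr.1 h1).1, h2⟩
    rw [Finset.card_erase_of_mem ha5, hf5] at hle
    omega
  have hn23 : n ≤ 23 := by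
    have : nbr K P a ⊆ Finset.univ.erase a := fun z hz => Finset.mem_erase.2 ⟨(mem_nbr.1 hz).1, Finset.mem_univ z⟩
    have := Finset.card_le_card this
    rwa [Finset.card_erase_of_mem (Finset.mem_univ a), Finset.card_univ, card_pt] at this
  have hne11 : u ≠ 11 := fun e => h11 (e ▸ hdiv a b)
  have hne22 : u ≠ 22 := fun e => h11 ((by norm_num : (11 : ℕ) ∣ 22).trans (e ▸ hdiv a b))
  have hne23 : u ≠ 23 := fun e => h23 (e ▸ hdiv a b)
  have hcases : n = 2 ∨ (n = 16 ∧ orb (ptStab K a) b = nbr K P a) := by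
    by_cases hsame : c ∈ orb (ptStab K a) b
    · have e : nbr K P a = orb (ptStab K a) b := by rw [hN, orb_eq_of_mem hsame, Finset.union_self]
      have : n = u := by rw [hn, e]; rfl
      have h' : n = 2 ∨ n = 16 := by omega
      exact h'.imp id fun h16 => ⟨h16, e.symm⟩
    · have hdis := orb_disjoint hsame
      have hn2 : n = 2 * u := by
        rw [hn, hN, Finset.card_union_of_disjoint hdis, two_mul]
        show sub K a b + sub K a c = u + u
        rw [← huv]
      left
      have h' : u = 1 ∨ u = 8 := by omega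
      rcases h' with h' | h'
      · omega
      · exfalso
        have hb5 : ∀ w, sub K a w = u → 3 ≤ (orb (ptStab K a) w ∩ fixF g5).card := fun w hw => by
          have h := card_modEq ho5 (orb_inv' hg5 (y := w))
          rw [show (orb (ptStab K a) w).card = u from hw] at h
          omega
        have h1 := hb5 b rfl
        have h2 := hb5 c huv.symm
        have h3 : ((orb (ptStab K a) b ∩ fixF g5) ∪ (orb (ptStab K a) c ∩ fixF g5)).card ≤ 4 :=
          (Finset.card_le_card (Finset.union_subset Finset.inter_subset_right Finset.inter_subset_right)).trans_eq hf5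
        rw [Finset.card_union_of_disjoint
          (hdis.mono Finset.inter_subset_left Finset.inter_subset_left)] at h3
        omega
  have hcard : ∀ x, (nbr K P x).card = n := fun x => card_nbr htr P x a
  rcases hcases with hn2 | ⟨hn16, horbb⟩
  · -- suborbits of size at most two
    have hNbc : nbr K P a = {b, c} := (Finset.eq_of_subset_of_card_le (fun z hz => by
      rw [hN]
      simp only [Finset.mem_insert, Finset.mem_singleton] at hz
      rcases hz with rfl | rfl
      · exact Finset.mem_union_left _ (self_mem_orb _)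
      · exact Finset.mem_union_right _ (self_mem_orb _)) (by rw [← hn, hn2, Finset.card_pair hbc])).symm
    have e5 : nbr K P a ∩ fixF g5 = nbr K P a := Finset.eq_of_subset_of_card_le Finset.inter_subset_left
      (by rw [← hn, ← hcount5 a ha5 P, ← hn, hn2])
    have hb5 : b ∈ fixF g5 := (Finset.mem_inter.1 (e5.symm ▸ (by simp [hNbc] : b ∈ nbr K P a))).2
    have hc5 : c ∈ fixF g5 := (Finset.mem_inter.1 (e5.symm ▸ (by simp [hNbc] : c ∈ nbr K P a))).2
    have htri : ∀ x ∈ fixF g7, nbr K P x = (fixF g7).erase x := fun x hx => by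
      have h2 := count_in_fix (mem_ptStab.1 hg7).1 ho7 hx P
      rw [hcard x, hn2] at h2
      have hs : nbr K P x ∩ fixF g7 ⊆ (fixF g7).erase x := fun z hz => by
        obtain ⟨h1, h2⟩ := Finset.mem_inter.1 hz
        exact Finset.mem_erase.2 ⟨(mem_nbr.1 h1).1, h2⟩
      have hle := Finset.card_le_card hs
      rw [Finset.card_erase_of_mem hx, hf7] at hle
      have e2 : (nbr K P x ∩ fixF g7).card = 2 := by omega
      have q1 : nbr K P x ∩ fixF g7 = nbr K P x :=
        Finset.eq_of_subset_of_card_le Finset.inter_subset_left (by rw [hcard x, hn2, e2])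
      rw [← q1]
      exact Finset.eq_of_subset_of_card_le hs (by rw [Finset.card_erase_of_mem hx, hf7, e2])
    obtain ⟨e, he5, hne⟩ : ∃ e ∈ fixF g5, e ∉ fixF g7 := by
      by_contra hno
      push Not at hno
      have := Finset.card_le_card (fun z hz => hno z hz : fixF g5 ⊆ fixF g7)
      omega
    have h2 : (nbr K P e ∩ fixF g5).card = 2 := by rw [← hcount5 e he5 P, hcard e, hn2]
    obtain ⟨z, hz⟩ := Finset.card_pos.1 (by omega : 0 < (nbr K P e ∩ fixF g5).card)
    obtain ⟨hze, hz5⟩ := Finset.mem_inter.1 hz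
    have hsub : fixF g5 = insert e (fixF g7) := by
      refine (Finset.eq_of_subset_of_card_le ?_ (by rw [Finset.card_insert_of_notMem hne, hf7, hf5])).symm
      rw [hF7]
      simp [Finset.insert_subset_iff, he5, ha5, hb5, hc5]
    have hz7 : z ∈ fixF g7 := by
      rw [hsub, Finset.mem_insert] at hz5
      exact hz5.resolve_left (mem_nbr.1 hze).1
    have := (mem_nbr_comm htr).1 hze
    rw [htri z hz7] at this
    exact hne (Finset.mem_erase.1 this).2
  · -- suborbits of sizes seven and sixteen
    set Q : ℕ → Prop := fun t => t ≠ u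
    have hQ : ∀ x, (nbr K Q x).card = 7 := by
      intro x
      have hd : Disjoint (nbr K P x) (nbr K Q x) :=
        Finset.disjoint_left.2 fun z h1 h2 => (mem_nbr.1 h2).2 (mem_nbr.1 h1).2
      have hu' : nbr K P x ∪ nbr K Q x = Finset.univ.erase x := by
        ext z
        simp only [Finset.mem_union, mem_nbr, Finset.mem_erase, Finset.mem_univ, and_true]
        exact ⟨fun h => h.elim (·.1) (·.1), fun h =>
          (em (sub K x z = u)).elim (fun e => Or.inl ⟨h, e⟩) fun e => Or.inr ⟨h, e⟩⟩
      have := congrArg Finset.card hu'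
      rw [Finset.card_union_of_disjoint hd, hcard x, hn16, Finset.card_erase_of_mem (Finset.mem_univ x),
        Finset.card_univ, card_pt] at this
      omega
    obtain ⟨e, he⟩ := Finset.card_eq_one.1 (show (nbr K P a ∩ fixF g5).card = 1 by
      rw [← hcount5 a ha5 P, hcard a, hn16])
    obtain ⟨heP, he5⟩ := Finset.mem_inter.1 (he ▸ Finset.mem_singleton_self e)
    obtain ⟨d, hd⟩ := Finset.card_pos.1 (show 0 < (nbr K Q e ∩ fixF g5).card by
      rw [← hcount5 e he5 Q, hQ e]; norm_num)
    obtain ⟨hdQ, hd5⟩ := Finset.mem_inter.1 hd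
    have hda : d ≠ a := fun h => by
      have h1 : e ∈ nbr K Q a := (mem_nbr_comm htr).1 (h ▸ hdQ)
      exact (mem_nbr.1 h1).2 (mem_nbr.1 heP).2
    have hdaQ : d ∈ nbr K Q a := mem_nbr.2 ⟨hda, fun h => by
      have : d ∈ nbr K P a ∩ fixF g5 := Finset.mem_inter.2 ⟨mem_nbr.2 ⟨hda, h⟩, hd5⟩
      rw [he, Finset.mem_singleton] at this
      exact (mem_nbr.1 hdQ).1 this⟩
    -- the suborbit of `d` has size seven
    have horbQ : orb (ptStab K a) d ⊆ nbr K Q a := fun z hz => by
      obtain ⟨k, hk, rfl⟩ := mem_orb.1 hz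
      exact nbr_inv hk Q d hdaQ
    have hw : sub K a d = 7 := by
      have h := card_modEq ho7 (orb_inv' hg7 (y := d))
      have he0 : orb (ptStab K a) d ∩ fixF g7 = ∅ := by
        ext z
        simp only [Finset.mem_inter, Finset.notMem_empty, iff_false, not_and]
        intro hz
        rw [hF7]
        simp only [Finset.mem_insert, Finset.mem_singleton]
        rintro (rfl | rfl | rfl)
        · exact self_not_mem_nbr Q _ (horbQ hz)
        · exact (mem_nbr.1 (horbQ hz)).2 rfl
        · exact (mem_nbr.1 (horbQ hz)).2 huv.symm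
      rw [he0, Finset.card_empty] at h
      have hle := Finset.card_le_card horbQ
      rw [hQ a] at hle
      have hpos := sub_pos (K := K) a d
      rw [sub] at hpos ⊢
      omega
    set H := ptStab (ptStab K a) d
    set J := (orb H e).card with hJ
    have hJ7 : J ≤ 7 := by
      have hs : orb H e ⊆ nbr K Q d := fun z hz => by
        obtain ⟨k, hk, rfl⟩ := mem_orb.1 hz
        obtain ⟨hk1, hk2⟩ := mem_ptStab.1 hk
        exact nbr_inv (mem_ptStab.2 ⟨(mem_ptStab.1 hk1).1, hk2⟩) Q e ((mem_nbr_comm htr).1 hdQ)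
      exact (Finset.card_le_card hs).trans_eq (hQ d)
    have hJ0 : 0 < J := card_orb_pos e
    have h16 : sub K a e = 16 := by
      have h := mem_nbr.1 heP
      have : u = 16 := by rw [hu, sub, horbb, ← hn, hn16]
      exact h.2.trans this
    have e1 := card_orb_mul (K := H) e
    rw [← hJ] at e1
    have e2 := sub_mul (K := K) a d
    rw [hw] at e2
    have e3 := sub_mul (K := K) a e
    rw [h16] at e3
    obtain ⟨m, hm⟩ : Nat.card ↥(ptStab H e) ∣ Nat.card ↥(ptStab (ptStab K a) e) :=
      Subgroup.card_dvd_of_le (inf_le_inf_right _ inf_le_left)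
    have hpos : 0 < Nat.card ↥(ptStab H e) := Nat.card_pos
    rw [hm, mul_assoc, ← e2, show Nat.card ↥H = _ from e1.symm, mul_assoc] at e3
    have := Nat.eq_of_mul_eq_mul_left hpos e3
    omega

set_option maxHeartbeats 800000 in
/-- A subgroup with elements of orders five, seven and eleven is not transitive of order `887040`. -/
theorem not_transitive_eleven (hK : K ≤ M24) (htr : ∀ x, orb K x = Finset.univ)
    (hc : Nat.card ↥K = 887040) : False := by
  have := prime_seven
  have := prime_eleven
  set a := pt 0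
  obtain ⟨g11, hg11, ho11, hf11, ha11⟩ :=
    exists_fixing (Or.inr (Or.inr rfl)) hK htr (by rw [hc]; norm_num) a
  obtain ⟨g7, hg7, ho7, hf7, ha7⟩ := exists_fixing (Or.inr (Or.inl rfl)) hK htr (by rw [hc]; norm_num) a
  have hcard : Nat.card ↥(ptStab K a) = 36960 := by have := card_ptStab_eq htr a; omega
  obtain ⟨b, hb⟩ := Finset.card_eq_one.1 (show ((fixF g11).erase a).card = 1 by
    rw [Finset.card_erase_of_mem ha11, hf11])
  obtain ⟨hba, hb11⟩ := Finset.mem_erase.1 (hb ▸ Finset.mem_singleton_self b)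
  have hs : sub K a b = 1 := by
    have hd : sub K a b ∣ 36960 := hcard ▸ sub_dvd a b
    have h11 := card_modEq ho11 (orb_inv' hg11 (y := b))
    have e11 : orb (ptStab K a) b ∩ fixF g11 = {b} := by
      ext z
      rw [Finset.mem_inter, Finset.mem_singleton]
      refine ⟨fun ⟨hz, hz'⟩ => ?_, fun h => by subst h; exact ⟨self_mem_orb _, hb11⟩⟩
      have : z ∈ (fixF g11).erase a := by
        refine Finset.mem_erase.2 ⟨?_, hz'⟩
        rintro rfl
        obtain ⟨k, hk, e⟩ := mem_orb.1 hz
        exact hba (k.injective (e.trans (mem_ptStab.1 hk).2.symm))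
      rwa [hb, Finset.mem_singleton] at this
    have h7 := card_modEq ho7 (orb_inv' hg7 (y := b))
    have hle : (orb (ptStab K a) b ∩ fixF g7).card ≤ 3 := (Finset.card_le_card Finset.inter_subset_right).trans_eq hf7
    rw [e11, Finset.card_singleton] at h11
    change sub K a b % 11 = _ at h11
    change sub K a b % 7 = _ at h7
    have h24 : sub K a b ≤ 24 := card_orb_le _
    have h : sub K a b = 1 ∨ sub K a b = 12 ∨ sub K a b = 23 := by omega
    rcases h with h | h | h
    · exact h
    · omega
    · rw [h] at hd; norm_num at hd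
  set P : ℕ → Prop := fun t => t = 1
  have hone : ∀ x, (nbr K P x).card = 1 := by
    intro x
    rw [card_nbr htr P x a]
    have e : nbr K P a = {b} := by
      ext y
      rw [mem_nbr, Finset.mem_singleton]
      refine ⟨fun ⟨hy, hy1⟩ => ?_, fun h => by subst h; exact ⟨hba, hs⟩⟩
      have hmem : g11 y ∈ orb (ptStab K a) y := orb_inv hg11 (self_mem_orb y)
      obtain ⟨w, hw⟩ := Finset.card_eq_one.1 (hy1 : (orb (ptStab K a) y).card = 1)
      rw [hw, Finset.mem_singleton] at hmem
      have hy' : y = w := Finset.mem_singleton.1 (hw ▸ self_mem_orb y)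
      have : y ∈ (fixF g11).erase a := Finset.mem_erase.2 ⟨hy, mem_fixF.2 (hmem.trans hy'.symm)⟩
      rwa [hb, Finset.mem_singleton] at this
    rw [e, Finset.card_singleton]
  have hin : ∀ x ∈ fixF g7, ∃ y ∈ fixF g7, nbr K P x = {y} := by
    intro x hx
    obtain ⟨y, hy⟩ := Finset.card_eq_one.1 (hone x)
    have h := count_in_fix (mem_ptStab.1 hg7).1 ho7 hx P
    rw [hy, Finset.card_singleton] at h
    refine ⟨y, ?_, hy⟩
    by_contra hno
    rw [Finset.singleton_inter_of_notMem hno, Finset.card_empty] at h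
    omega
  obtain ⟨x, hx, ex⟩ := hin a ha7
  have hxa : x ≠ a := fun h => self_not_mem_nbr P a (by rw [ex, h]; exact Finset.mem_singleton_self _)
  obtain ⟨z, hz, hzn⟩ : ∃ z ∈ fixF g7, z ∉ ({a, x} : Finset GolayPt) :=
    Finset.exists_mem_notMem_of_card_lt_card (by rw [Finset.card_pair hxa.symm, hf7]; norm_num)
  obtain ⟨y, hy, ey⟩ := hin z hz
  simp only [Finset.mem_insert, Finset.mem_singleton, not_or] at hzn
  have hyz : y ≠ z := fun h => self_not_mem_nbr P z (by rw [ey, h]; exact Finset.mem_singleton_self _)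
  have hF : fixF g7 = {a, x, z} := (Finset.eq_of_subset_of_card_le (by simp [Finset.insert_subset_iff, ha7, hx, hz])
    (by rw [hf7, Finset.card_insert_of_notMem (by simp [hxa.symm, Ne.symm hzn.1]), Finset.card_pair (Ne.symm hzn.2)])).symm
  rw [hF] at hy
  simp only [Finset.mem_insert, Finset.mem_singleton] at hy
  rcases hy with h | h | h
  · have : z ∈ nbr K P a := (mem_nbr_comm htr).1 (by rw [ey, h]; exact Finset.mem_singleton_self a)
    rw [ex, Finset.mem_singleton] at this
    exact hzn.2 this
  · obtain ⟨w, -, ew⟩ := hin x hx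
    have h1 : a ∈ nbr K P x := (mem_nbr_comm htr).1 (by rw [ex]; exact Finset.mem_singleton_self x)
    have h2 : z ∈ nbr K P x := (mem_nbr_comm htr).1 (by rw [ey, h]; exact Finset.mem_singleton_self x)
    rw [ew, Finset.mem_singleton] at h1 h2
    exact hzn.1 (h2.trans h1.symm)
  · exact hyz h

end CfsgLib.M24Idx
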